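import Groth.Agent.HorrocksPnLib.Main
import Groth.Agent.SBTautLib.Exist
import Groth.Agent.PicLiftLib.Vanish
import Groth.Agent.HilbPolyLib.BaseField

/-! Absolutely split bundles and cohomology vanishing. -/

set_option autoImplicit false
set_option linter.style.haveILetI false
set_option linter.unusedSectionVars false
set_option maxHeartbeats 1000000
universe u

noncomputable section

open CategoryTheory CategoryTheory.Limits AlgebraicGeometry
open W4c1astiltbs12 (pow)
open KFlatLib (pb)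

namespace SBAbsSplit

attribute [local instance] Abelian.hasFiniteBiproducts

variable {k : Type u} [Field k] {X : Scheme.{u}} {f : X ⟶ Spec (CommRingCat.of k)} [IsProper f]
  {K : Type u} [Field K] [Algebra k K]

/-- Vanishing of cohomology is insensitive to extending the field. -/
theorem subsingleton_bc_iff {M : X.Modules} (hM : Coh.IsCoh M) (i : ℕ) :
    Subsingleton (Coh.HH X M i) ↔ Subsingleton (Coh.HH (BrSev.bc f K) (BrSev.bcMod f K M) i) := by
  letI : X.Over (Spec (CommRingCat.of k)) := ⟨f⟩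
  haveI : IsProper (X ↘ Spec (CommRingCat.of k)) := ‹IsProper f›
  haveI := CurvLib.isNoetherian k (X := X)
  letI := HilbPolyLib.bcOver (k := k) (X := X) K
  haveI : IsProper (Curv2.bc k X K ↘ Spec (CommRingCat.of K)) :=
    inferInstanceAs (IsProper (pullback.snd f (Spec.map (CommRingCat.ofHom (algebraMap k K)))))
  have h := HilbPolyLib.finrank_HH_bc (k := k) (X := X) K hM.1 i
  haveI := CurvLib.finite_HH (k := k) hM i
  haveI := CurvLib.finite_HH (k := K) (X := Curv2.bc k X K)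
    (M := (Scheme.Modules.pullback (Curv2.bcFst k X K)).obj M) (ConsLib.isCoh_pullback _ hM) i
  show _ ↔ Subsingleton (Coh.HH (Curv2.bc k X K) ((Scheme.Modules.pullback (Curv2.bcFst k X K)).obj M) i)
  rw [← Module.finrank_eq_zero_iff_of_free (R := k), ← Module.finrank_eq_zero_iff_of_free (R := K), h]

theorem subsingleton_pow {Y : Scheme.{u}} [Y.Over (Spec (CommRingCat.of K))] {G : Y.Modules} (r : ℕ) (i : ℕ)
    (h : Subsingleton (Coh.HH Y G i)) : Subsingleton (Coh.HH Y (pow G r) i) :=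
  SerreVanLib.subsingleton_HH_of_iso (biproduct.isoCoproduct _).symm i
    (PnCohLib.subsingleton_HH_biproduct (k := K) (fun _ : Fin r => G) (𝟭 _) i fun _ => h)

theorem subsingleton_of_pow {Y : Scheme.{u}} {G : Y.Modules} {r : ℕ} (hr : 0 < r) (i : ℕ)
    (h : Subsingleton (Coh.HH Y (pow G r) i)) : Subsingleton (Coh.HH Y G i) := by
  refine ⟨fun a b => ?_⟩
  let ι : G ⟶ pow G r := Sigma.ι (fun _ : Fin r => G) ⟨0, hr⟩
  let π : pow G r ⟶ G := Sigma.desc fun _ => 𝟙 G
  have key : ∀ z : Coh.HH Y G i,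
      Sheaf.H.map ((QCohLib.toAbF Y).map π) i (Sheaf.H.map ((QCohLib.toAbF Y).map ι) i z) = z := fun z => by
    rw [← Sheaf.H.map_comp_apply, ← Functor.map_comp, Sigma.ι_desc, CategoryTheory.Functor.map_id,
      Sheaf.H.map_id_apply]
  exact (key a).symm.trans ((congrArg _ (@Subsingleton.elim _ h _ _)).trans (key b))

variable {m : ℕ} (e : BrSev.Splitting f K m)

theorem subsingleton_transport (G : (CohB1.ProjSpace m K).Modules) (i : ℕ) :
    Subsingleton (Coh.HH (BrSev.bc f K) (pb e.iso.hom G) i) ↔ Subsingleton (Coh.HH (CohB1.ProjSpace m K) G i) :=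
  ⟨fun h => SerreVanLib.subsingleton_HH_of_iso (((Scheme.Modules.pullbackId _).app G).symm ≪≫
      ((Scheme.Modules.pullbackCongr e.iso.inv_hom_id).app G).symm ≪≫
      ((Scheme.Modules.pullbackComp e.iso.inv e.iso.hom).app G).symm) i
      (PicLiftLib.subsingleton_HH_pullback_of_isIso e.iso.inv _ i h),
    fun h => PicLiftLib.subsingleton_HH_pullback_of_isIso e.iso.hom G i h⟩

/-- The bundle on projective space. -/
abbrev model (E : X.Modules) : (CohB1.ProjSpace m K).Modules := pb e.iso.inv (BrSev.bcMod f K E)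

def modelIso (E : X.Modules) : pb e.iso.hom (model e E) ≅ BrSev.bcMod f K E :=
  (Scheme.Modules.pullbackComp e.iso.hom e.iso.inv).app _ ≪≫
    (Scheme.Modules.pullbackCongr e.iso.hom_inv_id).app _ ≪≫ (Scheme.Modules.pullbackId _).app _

theorem isFinLocFree_model {E : X.Modules} (hE : FlatMod.IsFinLocFree E) : FlatMod.IsFinLocFree (model e E) :=
  CohCmpLib.isFinLocFree_pb e.iso.inv (CohCmpLib.isFinLocFree_pb (BrSev.proj f K) hE)

theorem nonempty_tensor_iso {Y P : Scheme.{u}} (h : Y ⟶ P) {B L W : Y.Modules} {T : P.Modules} {B' : P.Modules}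
    (eB : pb h B' ≅ B) {N M : Y.Modules} (a : L ≅ pow N 1) {r : ℕ} (b : W ≅ pow M r)
    (t : CohB1.tensorMod N M ≅ pb h T) :
    Nonempty (CohB1.tensorMod (CohB1.tensorMod B L) W ≅ pow (pb h (CohB1.tensorMod B' T)) r) := by
  obtain ⟨u⟩ := SBTw.nonempty_tensor_pow B N 1 1
  obtain ⟨v⟩ := SBTw.nonempty_tensor_pow (CohB1.tensorMod B N) M (1 * 1) r
  let w : CohB1.tensorMod (CohB1.tensorMod B N) M ≅ pb h (CohB1.tensorMod B' T) :=
    SerreVanLib.tensorAssoc _ _ _ ≪≫ SBTw.tensIso eB.symm t ≪≫ (PicPnLib.pullTens h _ _).symm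
  exact ⟨SBTw.tensIso (SBTw.tensIso (coproductUniqueIso fun _ : Fin 1 => B).symm a ≪≫ u) b ≪≫ v ≪≫
    eqToIso (congrArg (pow (CohB1.tensorMod (CohB1.tensorMod B N) M)) (by rw [one_mul, one_mul])) ≪≫
    Sigma.mapIso fun _ => w⟩

/-- The base change of a twist. -/
theorem nonempty_bc_iso {E L W : X.Modules} {c j : ℤ} {r : ℕ} (hLt : BrSev.IsTwPow e c 1 L)
    (hWt : BrSev.IsTwPow e j r W) :
    Nonempty (BrSev.bcMod f K (CohB1.tensorMod (CohB1.tensorMod E L) W) ≅
      pow (pb e.iso.hom (CohB1.tensorMod (model e E) (Twist.twistProjSpace m K (c + j)))) r) := by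
  obtain ⟨a⟩ := hLt
  obtain ⟨b⟩ := hWt
  obtain ⟨t⟩ := SBTw.twist_add' (e := e) c j
  obtain ⟨v⟩ := nonempty_tensor_iso e.iso.hom (modelIso e E) a b t
  exact ⟨PicPnLib.pullTens (BrSev.proj f K) _ W ≪≫
    SBTw.tensIso (PicPnLib.pullTens (BrSev.proj f K) E L) (Iso.refl _) ≪≫ v⟩

/-- Vanishing for a twist by a type and for the model. -/
theorem vanish_iff {E L W : X.Modules} (hE : FlatMod.IsFinLocFree E) (hL : PicF.IsInvertible L)
    (hW : FlatMod.IsFinLocFree W) {c j : ℤ} {r : ℕ} (hr : 0 < r) (hLt : BrSev.IsTwPow e c 1 L)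
    (hWt : BrSev.IsTwPow e j r W) (i : ℕ) :
    Subsingleton (Coh.HH X (CohB1.tensorMod (CohB1.tensorMod E L) W) i) ↔
      Subsingleton (Coh.HH (CohB1.ProjSpace m K)
        (CohB1.tensorMod (model e E) (Twist.twistProjSpace m K (c + j))) i) := by
  haveI : IsLocallyNoetherian X := LocallyOfFiniteType.isLocallyNoetherian f
  have h1 : FlatMod.IsFinLocFree (CohB1.tensorMod E L) :=
    VBResLib.vb_tensor (Y := X) L (A := E) hE (AmpleDevLib.isFinLocFree_of_isInvertible hL)
  have h2 : FlatMod.IsFinLocFree (CohB1.tensorMod (CohB1.tensorMod E L) W) :=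
    VBResLib.vb_tensor (Y := X) W (A := CohB1.tensorMod E L) h1 hW
  have hc : Coh.IsCoh (CohB1.tensorMod (CohB1.tensorMod E L) W) := Groth.Agent.PerfLib.isCoh_of_isFinLocFree h2
  refine (subsingleton_bc_iff (f := f) (K := K) hc i).trans (Iff.trans ?_ (subsingleton_transport e _ i))
  obtain ⟨φ⟩ := nonempty_bc_iso e (E := E) hLt hWt
  letI : (BrSev.bc f K).Over (Spec (CommRingCat.of K)) := ⟨BrSev.bcTo f K⟩
  exact ⟨fun h => subsingleton_of_pow hr i (SerreVanLib.subsingleton_HH_of_iso φ.symm i h),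
    fun h => SerreVanLib.subsingleton_HH_of_iso φ i (subsingleton_pow (K := K) r i h)⟩

/-- Split models come from split base changes. -/
theorem split_iff (E : X.Modules) :
    (∃ (s : ℕ) (Ls : Fin s → (BrSev.bc f K).Modules), (∀ i, PicF.IsInvertible (Ls i)) ∧
        Nonempty (BrSev.bcMod f K E ≅ ∐ Ls)) ↔
      ∃ (s : ℕ) (a : Fin s → ℤ), Nonempty (model e E ≅ ∐ fun i => Twist.twistProjSpace m K (a i)) := by
  constructor
  · rintro ⟨s, Ls, hLs, ⟨u⟩⟩
    choose a ha using fun i => KSMod.exists_iso_twist e (hLs i)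
    refine ⟨s, a, ⟨(Scheme.Modules.pullback e.iso.inv).mapIso u ≪≫
      PreservesCoproduct.iso (Scheme.Modules.pullback e.iso.inv) _ ≪≫ Sigma.mapIso fun i =>
        (Scheme.Modules.pullback e.iso.inv).mapIso (ha i).some ≪≫
        (Scheme.Modules.pullbackComp e.iso.inv e.iso.hom).app _ ≪≫
        (Scheme.Modules.pullbackCongr e.iso.inv_hom_id).app _ ≪≫ (Scheme.Modules.pullbackId _).app _⟩⟩
  · rintro ⟨s, a, ⟨u⟩⟩
    exact ⟨s, fun i => e.twist (a i), fun i => KSMod.isInvertible_twist e _,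
      ⟨(modelIso e E).symm ≪≫ (Scheme.Modules.pullback e.iso.hom).mapIso u ≪≫
        PreservesCoproduct.iso (Scheme.Modules.pullback e.iso.hom) _⟩⟩

/-- Absolutely split bundles are those with vanishing middle cohomology of all twists. -/
theorem absSplit_iff {A : Type u} [Ring A] [Algebra k A] [Algebra.IsCentral k A] [IsSimpleRing A] [Module.Finite k A]
    {n : ℕ} (hn : 0 < n) (hA : Module.finrank k A = n * n) (hX : BrSev.IsSBOf k A (n * n - n) f) [IsAlgClosure k K]
    (e : BrSev.Splitting f K (n - 1)) {p : ℕ} (hp : 0 < p) (hpA : CSALib.cl k A ^ p = 1)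
    {E : X.Modules} (hE : FlatMod.IsFinLocFree E) :
    (∃ (s : ℕ) (Ls : Fin s → (BrSev.bc f K).Modules), (∀ i, PicF.IsInvertible (Ls i)) ∧
        Nonempty (BrSev.bcMod f K E ≅ ∐ Ls)) ↔
      (∀ (i : ℕ), 0 < i → i + 1 < n → ∀ (a : ℤ) (L : X.Modules), PicF.IsInvertible L →
        BrSev.IsTwPow e (a * (p : ℤ)) 1 L → ∀ (j : ℤ), 0 ≤ j → j < (p : ℤ) →
        ∀ (W : X.Modules), FlatMod.IsFinLocFree W → KSMod.Indec W →
        ∀ (r : ℕ), 0 < r → BrSev.IsTwPow e j r W →
        Subsingleton (Coh.HH X (CohB1.tensorMod (CohB1.tensorMod E L) W) i)) := by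
  rw [split_iff e E]
  constructor
  · rintro ⟨s, a, ⟨u⟩⟩ i hi hin c L hL hLt j _ _ W hW _ r hr hWt
    exact (vanish_iff e hE hL hW hr hLt hWt i).2 (HorrocksPn.vanish_of_split (by omega) u _ i hi (by omega))
  · intro h
    rcases Nat.eq_zero_or_pos (n - 1) with h0 | h1
    · haveI := HorrocksPn.subsingleton_point (k := K) h0
      haveI : IsIntegral (CohB1.ProjSpace (n - 1) K) := PicPnLib.isIntegral_projSpace (n - 1) K
      obtain ⟨U, r, hU, hφ⟩ := isFinLocFree_model e hE (genericPoint (CohB1.ProjSpace (n - 1) K))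
      obtain ⟨φ⟩ := HorrocksPn.free_of_subsingleton (genericPoint (CohB1.ProjSpace (n - 1) K)) ⟨U, hU, hφ⟩
      obtain ⟨b⟩ := PicPnLib.twist_zero (n - 1) K
      exact ⟨r, fun _ => 0, ⟨φ ≪≫ Sigma.mapIso fun _ => b.symm⟩⟩
    · refine HorrocksPn.exists_split h1 (isFinLocFree_model e hE) fun t i hi hin => ?_
      obtain ⟨L, hL, hLt⟩ := (SBTaut.exists_invertible_iff hn hA hX e (t / p * p)).2 (by
        rw [Int.natAbs_mul, Int.natAbs_natCast, mul_comm, pow_mul, hpA, one_pow])
      obtain ⟨W, r, hW, hWi, hr, hWt⟩ := SBTaut.exists_indec hn hA hX e (t % p)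
      have h2 := (vanish_iff e hE hL hW hr hLt hWt i).1 (h i hi (by omega) (t / p) L hL hLt (t % p)
        (Int.emod_nonneg _ (by omega)) (Int.emod_lt_of_pos _ (by omega)) W hW hWi r hr hWt)
      rwa [mul_comm, Int.mul_ediv_add_emod] at h2

end SBAbsSplit
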